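import Groth.Agent.EtStrat.Basic
import Groth.Agent.EtSh.Constructible

/-!
# Non-separated étale morphisms over a stratification
-/

set_option autoImplicit false
set_option backward.isDefEq.respectTransparency.types false

universe u

open CategoryTheory CategoryTheory.Limits AlgebraicGeometry

namespace Groth.Agent.EtStrat

/-- a finite disjoint open cover by pieces finite over the base -/
theorem isFinite_of_disjoint_cover {T : Scheme.{u}} :
    ∀ (m : ℕ) {P : Scheme.{u}} (π : P ⟶ T) (W : Fin m → P.Opens), (⨆ i, W i = ⊤) →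
      Pairwise (fun i j => Disjoint (W i : Set P) (W j)) → (∀ i, IsFinite ((W i).ι ≫ π)) → IsFinite π := by
  intro m
  induction m with
  | zero =>
    intro P π W hcov _ _
    have : IsEmpty P := ⟨fun x => by simpa using hcov.ge (show x ∈ (⊤ : P.Opens) from trivial)⟩
    infer_instance
  | succ m ih =>
    intro P π W hcov hd hf
    let Z : P.Opens := ⨆ i : Fin m, W i.succ
    have hZ : IsFinite (Z.ι ≫ π) := by
      refine ih (Z.ι ≫ π) (fun i => Z.ι ⁻¹ᵁ W i.succ) (eq_top_iff.2 fun z _ => ?_) (fun i j hij => ?_) fun i => ?_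
      · obtain ⟨i, hi⟩ := TopologicalSpace.Opens.mem_iSup.1 z.2
        exact TopologicalSpace.Opens.mem_iSup.2 ⟨i, hi⟩
      · exact (hd fun h => hij (Fin.succ_injective _ h)).preimage _
      · have hle : W i.succ ≤ Z := le_iSup (fun i : Fin m => W i.succ) i
        have := hf i.succ
        have e : (Z.ι ⁻¹ᵁ W i.succ).ι ≫ Z.ι = (Z.ι ∣_ W i.succ) ≫ (W i.succ).ι := (morphismRestrict_ι _ _).symm
        have : IsIso (Z.ι ∣_ W i.succ) := by
          have := MorphismProperty.of_isPullback (P := @IsOpenImmersion) (isPullback_morphismRestrict Z.ι (W i.succ)).flip inferInstance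
          have : Surjective (Z.ι ∣_ W i.succ) := ⟨fun x => ⟨⟨⟨x.1, hle x.2⟩, x.2⟩, Subtype.ext (by
            rw [morphismRestrict_base]
            rfl)⟩⟩
          exact (isIso_iff_isOpenImmersion_and_epi_base _).2
            ⟨inferInstance, (TopCat.epi_iff_surjective _).2 (Z.ι ∣_ W i.succ).surjective⟩
        rw [← Category.assoc, e, Category.assoc]
        exact (MorphismProperty.cancel_left_of_respectsIso @IsFinite _ _).2 (hf i.succ)
    have hc : IsCompl (W 0).ι.opensRange Z.ι.opensRange := by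
      simp only [Scheme.Opens.opensRange_ι]
      refine ⟨?_, codisjoint_iff.2 (eq_top_iff.2 (hcov.ge.trans (iSup_le fun i => ?_)))⟩
      · rw [← TopologicalSpace.Opens.coe_disjoint, TopologicalSpace.Opens.coe_iSup, Set.disjoint_iUnion_right]
        exact fun i => hd (Fin.succ_ne_zero i).symm
      · refine Fin.cases le_sup_left (fun i => ?_) i
        exact le_sup_of_le_right (le_iSup (fun i : Fin m => W i.succ) i)
    obtain ⟨hcol⟩ := nonempty_isColimit_binaryCofanMk_of_isCompl (W 0).ι Z.ι hc
    let q := coprod.desc (W 0).ι Z.ι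
    have hq : IsIso q := by
      have : q = ((coprodIsCoprod _ _).coconePointUniqueUpToIso hcol).hom := by
        refine coprod.hom_ext ?_ ?_
        · exact (coprod.inl_desc _ _).trans
            (IsColimit.comp_coconePointUniqueUpToIso_hom (coprodIsCoprod _ _) hcol ⟨WalkingPair.left⟩).symm
        · exact (coprod.inr_desc _ _).trans
            (IsColimit.comp_coconePointUniqueUpToIso_hom (coprodIsCoprod _ _) hcol ⟨WalkingPair.right⟩).symm
      rw [this]
      infer_instance
    have := hf 0
    refine (MorphismProperty.cancel_left_of_respectsIso @IsFinite q π).1 ?_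
    rw [coprod.desc_comp]
    infer_instance

/-- étale morphisms of qcqs schemes are finite over the pieces of a finite stratification -/
theorem exists_strata_isFinite {U X : Scheme.{u}} [CompactSpace U] [QuasiSeparatedSpace U]
    [CompactSpace X] [QuasiSeparatedSpace X] (j : U ⟶ X) [Etale j] :
    ∃ (n : ℕ) (T : Fin n → Scheme.{u}) (g : ∀ i, T i ⟶ X),
      (∀ i, IsImmersion (g i)) ∧ (∀ i, Topology.IsConstructible (Set.range (g i))) ∧
      Pairwise (fun i i' => Disjoint (Set.range (g i)) (Set.range (g i'))) ∧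
      (⋃ i, Set.range (g i)) = Set.univ ∧ ∀ i, IsFinite (pullback.snd j (g i)) := by
  classical
  obtain ⟨m, A, hA, hcov⟩ := EtSh.exists_finite_affines (U := (⊤ : U.Opens)) isCompact_univ (fun _ => True)
    fun x _ => by
      obtain ⟨W, hW, hxW, -⟩ := exists_isAffineOpen_mem_and_subset (x := x) (U := ⊤) trivial
      exact ⟨W, hW, hxW, le_top, trivial⟩
  let O : Fin m × Fin m → U.Opens := fun p => A p.1 ⊓ A p.2
  have hOc : ∀ p, CompactSpace (O p).toScheme := fun p => isCompact_iff_compactSpace.1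
    (QuasiSeparatedSpace.inter_isCompact _ _ (A p.1).2 (hA p.1).1.isCompact (A p.2).2 (hA p.2).1.isCompact)
  have hOs : ∀ p, IsSeparated ((O p).ι ≫ j) := fun p => by
    have : IsAffine (A p.1).toScheme := (hA p.1).1
    have : IsSeparated ((A p.1).ι ≫ j) := IsSeparated.of_comp _ (terminal.from X)
    rw [← Scheme.homOfLE_ι U (inf_le_left : O p ≤ A p.1), Category.assoc]
    infer_instance
  choose d hd hlc hcons hfin using fun p => exists_deg_strata ((O p).ι ≫ j)
  let K := (p : Fin m × Fin m) → Fin (d p + 1)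
  let E : K → Set X := fun κ => ⋂ p, {x | deg ((O p).ι ≫ j) x = ((κ p : ℕ) : ℤ)}
  have hE : ∀ κ, Topology.IsConstructible (E κ) ∧ IsLocallyClosed (E κ) := fun κ => by
    have key : ∀ s : Finset (Fin m × Fin m),
        Topology.IsConstructible (⋂ p ∈ s, {x | deg ((O p).ι ≫ j) x = ((κ p : ℕ) : ℤ)}) ∧
        IsLocallyClosed (⋂ p ∈ s, {x | deg ((O p).ι ≫ j) x = ((κ p : ℕ) : ℤ)}) := by
      intro s
      induction s using Finset.induction with
      | empty => simp [Topology.IsConstructible.univ, isOpen_univ.isLocallyClosed]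
      | insert a s _ ih =>
        rw [Finset.set_biInter_insert]
        exact ⟨(hcons a _).inter ih.1, (hlc a _).inter ih.2⟩
    have e : E κ = ⋂ p ∈ (Finset.univ : Finset (Fin m × Fin m)), {x | deg ((O p).ι ≫ j) x = ((κ p : ℕ) : ℤ)} := by
      simp [E]
    exact e ▸ key _
  choose T g hg hgr using fun κ => EtSh.exists_immersion_of_isLocallyClosed (hE κ).2
  obtain ⟨n, ⟨e⟩⟩ := Finite.exists_equiv_fin K
  refine ⟨n, fun i => T (e.symm i), fun i => g (e.symm i), fun i => hg _, fun i => ?_, fun i i' hne => ?_, ?_,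
    fun i => ?_⟩
  · rw [hgr]
    exact (hE _).1
  · show Disjoint (Set.range (g (e.symm i))) (Set.range (g (e.symm i')))
    rw [hgr, hgr, Set.disjoint_left]
    intro x hx hx'
    refine hne (e.symm.injective (funext fun p => Fin.ext ?_))
    exact_mod_cast (Set.mem_iInter.1 hx p).symm.trans (Set.mem_iInter.1 hx' p)
  · refine Set.eq_univ_of_forall fun x => ?_
    let κ : K := fun p => ⟨(deg ((O p).ι ≫ j) x).toNat, by have := hd p x; omega⟩
    refine Set.mem_iUnion.2 ⟨e κ, ?_⟩
    show x ∈ Set.range (g (e.symm (e κ)))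
    rw [Equiv.symm_apply_apply]
    refine (hgr κ).ge (Set.mem_iInter.2 fun p => ?_)
    show deg ((O p).ι ≫ j) x = (((deg ((O p).ι ≫ j) x).toNat : ℕ) : ℤ)
    have := hd p x
    omega
  · set κ := e.symm i
    let π := pullback.snd j (g κ)
    let P : Fin m → (pullback j (g κ)).Opens := fun a => pullback.fst j (g κ) ⁻¹ᵁ A a
    have hPf : ∀ p : Fin m × Fin m, IsFinite ((P p.1 ⊓ P p.2).ι ≫ π) := fun p => by
      have h0 : IsFinite (pullback.snd ((O p).ι ≫ j) (g κ)) := hfin p _ (g κ) ((κ p : ℕ) : ℤ) fun t =>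
        Set.mem_iInter.1 ((hgr κ).le ⟨t, rfl⟩) p
      have hsq := (isPullback_morphismRestrict (pullback.fst j (g κ)) (O p)).paste_vert
        (IsPullback.of_hasPullback j (g κ))
      have := (MorphismProperty.cancel_left_of_respectsIso @IsFinite hsq.isoPullback.hom _).2 h0
      rw [hsq.isoPullback_hom_snd] at this
      exact this
    have hclosed : ∀ a b, IsClosed {z : (P a).toScheme | z.1 ∈ P b} := fun a b => by
      have h1 : IsFinite ((P a).ι ≫ π) := (inf_idem (P a)) ▸ hPf (a, a)
      let k := (pullback j (g κ)).homOfLE (inf_le_left : P a ⊓ P b ≤ P a)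
      have h2 : IsFinite (k ≫ (P a).ι ≫ π) := by
        rw [← Category.assoc, Scheme.homOfLE_ι]
        exact hPf (a, b)
      have : IsFinite k := IsFinite.of_comp k ((P a).ι ≫ π)
      have e : {z : (P a).toScheme | z.1 ∈ P b} = Set.range k := by
        ext z
        refine ⟨fun hz => ⟨⟨z.1, z.2, hz⟩, Subtype.ext (by simp [k, Scheme.homOfLE_apply])⟩, ?_⟩
        rintro ⟨w, rfl⟩
        show (k w).1 ∈ P b
        rw [show (k w).1 = w.1 by simp [k, Scheme.homOfLE_apply]]
        exact w.2.2
      exact e ▸ k.isClosedMap.isClosed_range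
    let W : Fin m → (pullback j (g κ)).Opens := fun a => ⟨(P a).ι '' ⋂ b : {b // b < a}, {z | z.1 ∈ P b.1}ᶜ,
      (P a).ι.isOpenEmbedding.isOpenMap _ (isOpen_iInter_of_finite fun b => (hclosed a b.1).isOpen_compl)⟩
    have hW : ∀ a z, z ∈ W a ↔ z ∈ P a ∧ ∀ b < a, z ∉ P b := fun a z =>
      ⟨fun ⟨w, hw, hwz⟩ => hwz ▸ ⟨w.2, fun b hb => Set.mem_iInter.1 hw ⟨b, hb⟩⟩,
        fun ⟨hz, h⟩ => ⟨⟨z, hz⟩, Set.mem_iInter.2 fun b => h b.1 b.2, rfl⟩⟩
    refine isFinite_of_disjoint_cover m π W (eq_top_iff.2 fun z _ => TopologicalSpace.Opens.mem_iSup.2 ?_)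
      (fun a b hab => Set.disjoint_left.2 fun z hza hzb => ?_) fun a => ?_
    · obtain ⟨a, ha⟩ := Set.mem_iUnion.1 (hcov (Set.mem_univ (pullback.fst j (g κ) z)))
      let s := Finset.univ.filter fun b => z ∈ P b
      have hs : s.Nonempty := ⟨a, Finset.mem_filter.2 ⟨Finset.mem_univ _, ha⟩⟩
      exact ⟨s.min' hs, (hW _ _).2 ⟨(Finset.mem_filter.1 (s.min'_mem hs)).2, fun b hb hzb =>
        not_lt.2 (s.min'_le b (Finset.mem_filter.2 ⟨Finset.mem_univ _, hzb⟩)) hb⟩⟩
    · rcases lt_or_gt_of_ne hab with h | h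
      · exact ((hW b z).1 hzb).2 a h ((hW a z).1 hza).1
      · exact ((hW a z).1 hza).2 b h ((hW b z).1 hzb).1
    · have h1 : IsFinite ((P a).ι ≫ π) := (inf_idem (P a)) ▸ hPf (a, a)
      have hle : W a ≤ P a := fun z hz => ((hW a z).1 hz).1
      let k := (pullback j (g κ)).homOfLE hle
      have hk : IsClosedImmersion k := by
        refine IsClosedImmersion.of_isPreimmersion k ?_
        have e : Set.range k = ⋂ b : {b // b < a}, {z : (P a).toScheme | z.1 ∈ P b.1}ᶜ := by
          ext z
          constructor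
          · rintro ⟨w, rfl⟩
            refine Set.mem_iInter.2 fun b => ?_
            show (k w).1 ∉ P b.1
            rw [show (k w).1 = w.1 by simp [k, Scheme.homOfLE_apply]]
            exact ((hW a w.1).1 w.2).2 b.1 b.2
          · intro hz
            exact ⟨⟨z.1, (hW a z.1).2 ⟨z.2, fun b hb => Set.mem_iInter.1 hz ⟨b, hb⟩⟩⟩,
              Subtype.ext (by simp [k, Scheme.homOfLE_apply])⟩
        rw [e]
        refine isClosed_iInter fun b => ?_
        let k' := (pullback j (g κ)).homOfLE (inf_le_left : P a ⊓ P b.1 ≤ P a)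
        have : {z : (P a).toScheme | z.1 ∈ P b.1} = Set.range k' := by
          ext z
          refine ⟨fun hz => ⟨⟨z.1, z.2, hz⟩, Subtype.ext (by simp [k', Scheme.homOfLE_apply])⟩, ?_⟩
          rintro ⟨w, rfl⟩
          show (k' w).1 ∈ P b.1
          rw [show (k' w).1 = w.1 by simp [k', Scheme.homOfLE_apply]]
          exact w.2.2
        exact (this ▸ k'.isOpenEmbedding.isOpen_range).isClosed_compl
      rw [← Scheme.homOfLE_ι _ hle, Category.assoc]
      infer_instance

end Groth.Agent.EtStrat
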