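import Groth.Agent.Weighting.Semicont
import Groth.Agent.Weighting.LevelSets
import Groth.Agent.Weighting.Constructible
import Groth.Agent.S9559
import Groth.Agent.EtSh.Strata
import Groth.Agent.EtSh.Constructible
import Groth.Agent.EtSh.Point
import Mathlib.AlgebraicGeometry.Limits
import Mathlib.AlgebraicGeometry.Morphisms.Finite
import Mathlib.AlgebraicGeometry.Morphisms.QuasiSeparated

/-!
# Étale morphisms are finite over the pieces of a finite stratification
-/

set_option autoImplicit false
set_option backward.isDefEq.respectTransparency.types false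

universe u

open CategoryTheory CategoryTheory.Limits AlgebraicGeometry

namespace Groth.Agent.EtStrat

open Groth.Agent.Weighting

variable {U X : Scheme.{u}} (π : U ⟶ X)

/-- the number of geometric points in the fibre -/
noncomputable abbrev deg (x : X) : ℤ := MoreMor.fibreIntegral π (fun _ => (1 : ℤ)) x

theorem fibreIntegral_one_eq [LocallyQuasiFinite π] {K : Type u} [Field K] [IsAlgClosed K]
    (y : Spec (.of K) ⟶ X) (hfin : (π ⁻¹' {pt y}).Finite) : deg π (pt y) = Nat.card (GPts π y) := by
  classical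
  have := finite_gpts π y hfin
  let := Fintype.ofFinite (GPts π y)
  rw [deg, fibreIntegral_eq π _ y _ rfl hfin, finsum_eq_sum_of_fintype]
  simp [Nat.card_eq_fintype_card]

/-- the degree of a finite étale morphism is locally constant -/
theorem isLocallyConstant_deg [IsFinite π] [Etale π] : IsLocallyConstant (deg π) := by
  rw [IsLocallyConstant.iff_exists_open]
  intro x
  obtain ⟨V, g, hg, u, hu, n, Vj, c, hc, e, hec⟩ := Groth.Agent.S9559.result π x
  have := EtSh.locallyQuasiFinite_of_etale π
  suffices ∀ v : V, deg π (g v) = n by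
    refine ⟨Set.range g, g.isOpenMap.isOpen_range, ⟨u, hu⟩, ?_⟩
    rintro _ ⟨v, rfl⟩
    rw [← hu, this, this]
  intro v
  obtain ⟨K, _, _, y, rfl⟩ := exists_geomPoint v
  have hfin : ∀ z, (π ⁻¹' {z}).Finite := fun z => π.finite_preimage_singleton z
  rw [← pt_comp, fibreIntegral_one_eq π _ (hfin _)]
  norm_cast
  rw [← Nat.card_congr (GPts.pullbackEquiv (IsPullback.of_hasPullback π g) y)]
  let φ : Fin n → GPts (pullback.snd π g) y := fun j => ⟨y ≫ inv (c j) ≫ Sigma.ι Vj j ≫ e.hom, by
    simp only [Category.assoc, hec, IsIso.inv_hom_id, Category.comp_id]⟩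
  refine (Nat.card_eq_of_bijective φ ⟨fun i j hij => ?_, fun z => ?_⟩).symm.trans (Nat.card_fin n)
  · by_contra hne
    have hd := disjoint_opensRange_sigmaι Vj i j hne
    rw [← TopologicalSpace.Opens.coe_disjoint, Scheme.Hom.coe_opensRange, Scheme.Hom.coe_opensRange] at hd
    have h1 : y ≫ inv (c i) ≫ Sigma.ι Vj i = y ≫ inv (c j) ≫ Sigma.ι Vj j := by
      rw [← cancel_mono e.hom]
      simpa [Category.assoc] using congrArg Subtype.val hij
    have h2 := congrArg pt h1
    exact Set.disjoint_left.1 hd ⟨_, rfl⟩ ⟨_, h2.symm⟩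
  · obtain ⟨j, a, ha⟩ := (sigmaOpenCover Vj).exists_eq (e.inv (pt z.1))
    let l : Spec (.of K) ⟶ Vj j := IsOpenImmersion.lift (Sigma.ι Vj j) (z.1 ≫ e.inv) (by
      rintro _ ⟨p, rfl⟩
      rw [Subsingleton.elim (α := PrimeSpectrum K) p (IsLocalRing.closedPoint K)]
      exact ⟨a, ha⟩)
    have hl : l ≫ Sigma.ι Vj j ≫ e.hom = z.1 := by
      rw [← Category.assoc, IsOpenImmersion.lift_fac, Category.assoc, Iso.inv_hom_id, Category.comp_id]
    refine ⟨j, Subtype.ext ?_⟩
    have : l ≫ c j = y := by
      rw [← hec, ← z.2, ← hl]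
      simp only [Category.assoc]
    show y ≫ inv (c j) ≫ Sigma.ι Vj j ≫ e.hom = z.1
    exact ((congrArg (· ≫ inv (c j) ≫ Sigma.ι Vj j ≫ e.hom) this.symm).trans ((Category.assoc _ _ _).trans (by rw [IsIso.hom_inv_id_assoc]))).trans hl

/-- the constant function one is a weighting of an étale morphism -/
theorem isWeighting_one [Etale π] : MoreMor.IsWeighting π (fun _ => (1 : ℤ)) := fun V g _ W hW => by
  have : Etale (W.ι ≫ pullback.snd π g) := inferInstance
  exact isLocallyConstant_deg (W.ι ≫ pullback.snd π g)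

/-- separated quasi-compact étale morphisms: finitely many level sets, finite over each -/
theorem exists_deg_strata [CompactSpace X] [CompactSpace U] [QuasiSeparatedSpace X] [Etale π] [IsSeparated π] :
    ∃ (d : ℕ), (∀ x, 0 ≤ deg π x ∧ deg π x ≤ d) ∧
      (∀ k, IsLocallyClosed {x : X | deg π x = k}) ∧
      (∀ k, Topology.IsConstructible {x : X | deg π x = k}) ∧
      ∀ (T : Scheme.{u}) (g : T ⟶ X) (k : ℤ), (∀ t, deg π (g t) = k) → IsFinite (pullback.snd π g) := by
  have := EtSh.locallyQuasiFinite_of_etale π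
  have : QuasiCompact π := QuasiCompact.of_comp π (terminal.from X)
  have hfin : ∀ z, (π ⁻¹' {z}).Finite := fun z => π.finite_preimage_singleton z
  have hw := isWeighting_one π
  have hnn : ∀ x, 0 ≤ deg π x := fun x => by
    obtain ⟨K, _, _, y, rfl⟩ := exists_geomPoint x
    rw [fibreIntegral_one_eq π y (hfin _)]
    exact Int.natCast_nonneg _
  obtain ⟨B, hB⟩ := exists_bound_fibreIntegral π hw
  have hlsc := lowerSemicontinuous_of_pos π hfin hw (fun _ => one_pos)
  refine ⟨B.toNat, fun x => ⟨hnn x, (hB x).trans (Int.self_le_toNat B)⟩, fun k => ?_,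
    fun k => (isLocallyConstructible_fibreIntegral π hw k).isConstructible, fun T g k hk => ?_⟩
  · refine ⟨deg π ⁻¹' Set.Ioi (k - 1), (deg π ⁻¹' Set.Ioi k)ᶜ,
      lowerSemicontinuous_iff_isOpen_preimage.1 hlsc _,
      (lowerSemicontinuous_iff_isOpen_preimage.1 hlsc _).isClosed_compl, ?_⟩
    ext x
    simp only [Set.mem_ofPred_eq, Set.mem_inter_iff, Set.mem_preimage, Set.mem_Ioi, Set.mem_compl_iff]
    omega
  · have : LocallyQuasiFinite (pullback.snd π g) := inferInstance
    have hfin' : ∀ t, (pullback.snd π g ⁻¹' {t}).Finite := fun t => (pullback.snd π g).finite_preimage_singleton t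
    have he : ∀ t, deg (pullback.snd π g) t = k := fun t =>
      (fibreIntegral_isPullback (IsPullback.of_hasPullback π g) (fun _ => (1 : ℤ)) t (hfin _)).trans (hk t)
    obtain ⟨hYd, hF⟩ := isFinite_max_locus (pullback.snd π g) hfin' (isWeighting_one _) (fun _ => one_pos) k
      fun t => (he t).le
    have hT : (⟨{t : T | deg (pullback.snd π g) t = k}, hYd⟩ : T.Opens) = ⊤ :=
      TopologicalSpace.Opens.ext (Set.eq_univ_of_forall he)
    rw [hT] at hF
    exact (IsZariskiLocalAtTarget.iff_of_iSup_eq_top (P := @IsFinite) (fun _ : Unit => (⊤ : T.Opens)) (by simp)).2 fun _ => hF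

end Groth.Agent.EtStrat
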